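import Groth.Prelude.Def_CohB1
import Groth.Prelude.Def_P1
import Groth.Agent.Lib.ProjSpace.Basic
import Groth.Agent.Lib.ProjSpace.BaseChange
import Groth.Agent.Lib.RegExt.P1
import Mathlib.AlgebraicGeometry.Morphisms.Flat
import Mathlib.AlgebraicGeometry.Morphisms.UniversallyOpen

/-! Connectedness of the fibres of `P^n_S → S`, clopen subsets of finite flat covers of `P¹_S`. -/

set_option autoImplicit false
set_option backward.isDefEq.respectTransparency false
set_option backward.isDefEq.respectTransparency.types false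

open CategoryTheory CategoryTheory.Limits AlgebraicGeometry

universe u

namespace Groth.Agent.P1Fin13

/-- The fibres of `P^n_S → S` are irreducible. -/
theorem irreducibleSpace_fiber_toBase (n : ℕ) (S : Scheme.{u}) (s : S) :
    IrreducibleSpace ↥((CohB1.ProjSpaceOver.toBase n S).fiber s) := by
  let e : (CohB1.ProjSpaceOver.toBase n S).fiber s ≅ CohB1.ProjSpace n (S.residueField s) :=
    pullbackLeftPullbackSndIso _ _ _ ≪≫
      pullback.congrHom rfl (specULiftZIsTerminal.hom_ext _ _) ≪≫
      (ProjSpace.overSpecIso n (S.residueField s)).symm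
  haveI := RegExt.isIntegral_projSpace n (S.residueField s)
  exact (Scheme.homeoOfIso e).symm.surjective.irreducibleSpace (Scheme.homeoOfIso e).symm.continuous

theorem isPreconnected_preimage_singleton (n : ℕ) (S : Scheme.{u}) (s : S) :
    _root_.IsPreconnected (CohB1.ProjSpaceOver.toBase n S ⁻¹' {s}) := by
  haveI := irreducibleSpace_fiber_toBase n S s
  rw [← (CohB1.ProjSpaceOver.toBase n S).range_fiberι s]
  exact isPreconnected_range ((CohB1.ProjSpaceOver.toBase n S).fiberι s).continuous

@[reassoc]
theorem sect_toBase (S : Scheme.{u}) (i : Fin (1 + 1)) :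
    P1.sect S i ≫ CohB1.ProjSpaceOver.toBase 1 S = 𝟙 S :=
  pullback.lift_snd _ _ _

/-- A clopen subset of `P¹_S` that misses a section is empty. -/
theorem clopen_eq_empty_of_disjoint_sect (S : Scheme.{u}) (i : Fin (1 + 1))
    (A : Set (CohB1.ProjSpaceOver 1 S : Scheme.{u})) (hA : IsClopen A)
    (h : ∀ s : S, P1.sect S i s ∉ A) : A = ∅ := by
  rw [Set.eq_empty_iff_forall_notMem]
  intro p hp
  have h1 := (isPreconnected_preimage_singleton 1 S (CohB1.ProjSpaceOver.toBase 1 S p)).subset_isClopen hA
    ⟨p, rfl, hp⟩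
  refine h (CohB1.ProjSpaceOver.toBase 1 S p) (h1 ?_)
  change CohB1.ProjSpaceOver.toBase 1 S (P1.sect S i (CohB1.ProjSpaceOver.toBase 1 S p)) = _
  rw [← Scheme.Hom.comp_apply, sect_toBase]
  simp

/-- `P¹_S` is connected over a connected base. -/
theorem preconnectedSpace_line (S : Scheme.{u}) [PreconnectedSpace S] :
    PreconnectedSpace (CohB1.ProjSpaceOver 1 S : Scheme.{u}) := by
  rw [preconnectedSpace_iff_clopen]
  intro A hA
  by_cases h : ∀ s : S, P1.sect S 0 s ∉ A
  · exact Or.inl (clopen_eq_empty_of_disjoint_sect S 0 A hA h)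
  · refine Or.inr ?_
    push Not at h
    obtain ⟨s₀, hs₀⟩ := h
    have hS : P1.sect S 0 ⁻¹' A = Set.univ :=
      ((isClopen_iff.1 (hA.preimage (P1.sect S 0).continuous)).resolve_left
        (Set.Nonempty.ne_empty ⟨s₀, hs₀⟩))
    have := clopen_eq_empty_of_disjoint_sect S 0 Aᶜ hA.compl
      (fun s hs => hs (hS.ge (Set.mem_univ s)))
    exact Set.compl_empty_iff.1 this

variable {X : Scheme.{u}} {S : Scheme.{u}} (g : X ⟶ CohB1.ProjSpaceOver 1 S)

/-- The image of a clopen subset under a finite, flat, finitely presented morphism is clopen. -/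
theorem isClopen_image [IsFinite g] [Flat g] [LocallyOfFinitePresentation g]
    {W : Set X} (hW : IsClopen W) : IsClopen (g '' W) :=
  ⟨g.isClosedMap _ hW.1, g.isOpenMap _ hW.2⟩

/-- A clopen subset containing the preimage of a section is everything. -/
theorem eq_univ_of_isClopen [IsFinite g] [Flat g] [LocallyOfFinitePresentation g]
    (W : Set X) (hW : IsClopen W) (h0 : ∀ x : X, g x ∈ Set.range (P1.sect S 0) → x ∈ W) :
    W = Set.univ := by
  have h := clopen_eq_empty_of_disjoint_sect S 0 _ (isClopen_image g hW.compl)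
    (fun s ⟨x, hx, hxs⟩ => hx (h0 x ⟨s, hxs.symm⟩))
  rwa [Set.image_eq_empty, Set.compl_empty_iff] at h

end Groth.Agent.P1Fin13
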